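import Groth.Agent.L14.NLAmp.Main
import Groth.Agent.L07.DiagRes
import Groth.Agent.L07.KoszulLocal
import Groth.Agent.L19.PerfectHom

/-! # Flat conormal module and finite Tor dimension: a local complete intersection -/

set_option autoImplicit false
set_option linter.style.haveILetI false
set_option maxSynthPendingDepth 3
set_option backward.isDefEq.respectTransparency false

universe u

open CategoryTheory CategoryTheory.Limits TensorProduct

attribute [local instance] HasDerivedCategory.standard

namespace Groth.L14.NLAmp

/-- Finite modules of finite Tor dimension over a Noetherian ring have finite projective dimension. -/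
theorem hasProjectiveDimensionLT_of_torDim {P M : Type u} [CommRing P] [IsNoetherianRing P] [AddCommGroup M]
    [Module P M] [Module.Finite P M] (n : ℕ) (h : DRing.HasTorDimLE P n M) :
    HasProjectiveDimensionLT (ModuleCat.of P M) (n + 1) := by
  haveI := Groth.L07.DiagRes.flat_of_hasTorDimLE M P n
    (Groth.L07.DiagRes.hasTorDimLE_congr (TensorProduct.lid P M).symm h)
  haveI : Module.Projective P
      (P ⊗[P] (Groth.L07.DiagRes.F (E := P) M n ⧸ Groth.L07.DiagRes.Z (E := P) M n)) := by
    haveI : Module.FinitePresentation P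
        (P ⊗[P] (Groth.L07.DiagRes.F (E := P) M n ⧸ Groth.L07.DiagRes.Z (E := P) M n)) :=
      Module.finitePresentation_of_finite P _
    exact Module.Flat.projective_of_finitePresentation
  exact Groth.L07.DiagRes.hasProjectiveDimensionLT_of_res
    (Groth.L07.DiagRes.res_of_equiv (TensorProduct.lid P M)
      (Groth.L07.DiagRes.res_of_projective M P n inferInstance))

variable {R B : Type u} [CommRing R] [CommRing B] [Algebra R B] {n : ℕ}

theorem projective_cot_of (π : MvPolynomial (Fin n) R →ₐ[R] B) (hπ : Function.Surjective π)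
    {M : Type u} [AddCommGroup M] [Module B M] [Module.Projective B M] (c : RingHom.ker π →+ M)
    (hc : Function.Surjective c)
    (hs : ∀ (a : MvPolynomial (Fin n) R) (j : RingHom.ker π), c (a • j) = π a • c j)
    (hk : ∀ j, c j = 0 ↔ (j : MvPolynomial (Fin n) R) ∈ RingHom.ker π ^ 2) :
    Module.Projective (MvPolynomial (Fin n) R ⧸ RingHom.ker π) (RingHom.ker π).Cotangent := by
  let J := RingHom.ker π
  let t : J →+ J.Cotangent := J.toCotangent.toAddMonoidHom
  let d : M →+ J.Cotangent :=
    (c.liftOfSurjective hc) ⟨t, fun j hj => (J.toCotangent_eq_zero j).mpr ((hk j).mp hj)⟩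
  have hd : ∀ j, d (c j) = J.toCotangent j := fun j => AddMonoidHom.liftOfRightInverse_comp_apply _ _ _ _ j
  refine projective_transfer (Ideal.quotientKerAlgEquivOfSurjective hπ).symm.toRingEquiv d ⟨?_, fun z => ?_⟩ ?_
  · refine (injective_iff_map_eq_zero d).mpr fun m hm => ?_
    obtain ⟨j, rfl⟩ := hc m
    exact (hk j).mpr ((J.toCotangent_eq_zero j).mp ((hd j).symm.trans hm))
  · obtain ⟨j, rfl⟩ := J.toCotangent_surjective z
    exact ⟨c j, hd j⟩
  · intro s m
    obtain ⟨a, rfl⟩ := hπ s
    obtain ⟨j, rfl⟩ := hc m
    have he : (Ideal.quotientKerAlgEquivOfSurjective hπ).symm (π a) = Ideal.Quotient.mk J a :=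
      (AlgEquiv.symm_apply_eq _).mpr rfl
    have e2 : (Ideal.Quotient.mk J a : MvPolynomial (Fin n) R ⧸ J) • J.toCotangent j = J.toCotangent (a • j) :=
      (J.toCotangent.map_smul a j).symm
    show d (π a • c j) = (Ideal.quotientKerAlgEquivOfSurjective hπ).symm (π a) • d (c j)
    rw [he, ← hs, hd, hd, e2]

/-- Over a Noetherian ring, finite Tor dimension and flat conormal module give a local complete intersection. -/
theorem isLCI_of_flat_self [IsNoetherianRing R] [Algebra.FiniteType R B]
    (hB : DRing.HasFiniteTorDim R B)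
    (h : Module.Flat B (Algebra.Generators.self R B).toExtension.Cotangent) : LCI.IsLCI R B := by
  haveI : Algebra.FinitePresentation R B := Algebra.FinitePresentation.of_finiteType.mp inferInstance
  obtain ⟨m, π, hπ⟩ := Algebra.FiniteType.iff_quotient_mvPolynomial''.mp (inferInstance : Algebra.FiniteType R B)
  refine ⟨inferInstance, m, π, hπ, ?_⟩
  obtain ⟨c, hc, hs, hk⟩ := exists_cot π hπ
  haveI := flat_fin_of (Algebra.Generators.self R B) (gens π hπ) h
  haveI := finite_cotangent π hπ
  haveI : IsNoetherianRing B := Algebra.FiniteType.isNoetherianRing R B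
  haveI : Module.FinitePresentation B (gens π hπ).toExtension.Cotangent :=
    Module.finitePresentation_of_finite B _
  haveI : Module.Projective B (gens π hπ).toExtension.Cotangent := Module.Flat.projective_of_finitePresentation
  haveI := projective_cot_of π hπ c hc hs hk
  let P := MvPolynomial (Fin m) R
  letI := π.toRingHom.toAlgebra
  haveI : IsScalarTower R P B := IsScalarTower.of_algebraMap_eq fun a => (π.commutes a).symm
  haveI : Module.Finite P B := RingHom.Finite.of_surjective π.toRingHom hπ
  obtain ⟨d, hd⟩ := hB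
  have hamp := Groth.L19.PerfectHom.amp_mvPolynomial m B d ((Groth.L10.DR.hasTorDimLE_iff_amp d).1 hd)
  have hpd := hasProjectiveDimensionLT_of_torDim (d + m) ((Groth.L10.DR.hasTorDimLE_iff_amp (d + m)).2 hamp)
  haveI : HasProjectiveDimensionLT (ModuleCat.of P B) (d + m + 1) := hpd
  have hpd' : HasProjectiveDimensionLT (ModuleCat.of P B) (d + m + 1 + 1) :=
    hasProjectiveDimensionLT_of_ge _ (d + m + 1) _ (Nat.le_succ _)
  let f : P →ₗ[P] B := Algebra.linearMap P B
  have hS : (ShortComplex.mk (ModuleCat.ofHom (LinearMap.ker f).subtype) (ModuleCat.ofHom f)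
      (ModuleCat.hom_ext (LinearMap.ext fun x => x.2))).ShortExact :=
    { exact := (ShortComplex.ShortExact.moduleCat_exact_iff_function_exact _).2 f.exact_subtype_ker_map
      mono_f := ConcreteCategory.mono_of_injective _ Subtype.val_injective
      epi_g := ConcreteCategory.epi_of_surjective _ hπ }
  have hker : HasProjectiveDimensionLT (ModuleCat.of P (LinearMap.ker f)) (d + m + 1) :=
    (hS.hasProjectiveDimensionLT_X₃_iff (d + m) ((IsProjective.iff_projective _).mp
      (inferInstanceAs (Module.Projective P P)))).mp hpd'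
  have hJ : HasProjectiveDimensionLT (ModuleCat.of P (RingHom.ker π)) (d + m + 1) := hker
  intro 𝔭 h𝔭
  obtain ⟨g, hg, rs, hrs, hgen⟩ := Groth.Agent.S2189.result (RingHom.ker π) (d + m + 1) hJ 𝔭.asIdeal h𝔭
  refine ⟨g, hg, rs, ?_, hgen.symm⟩
  refine Groth.L07.KoszulLocal.isKoszulRegularSeq_of_local rs fun M hM _ => ?_
  haveI : Module.Flat (Localization.Away g) (Localization.AtPrime M) := IsLocalization.flat _ M.primeCompl
  exact (RingTheory.Sequence.isWeaklyRegular_map_algebraMap_iff (Localization.AtPrime M)
    (Localization.AtPrime M) rs).mp (hrs.toIsWeaklyRegular.of_flat (S := Localization.AtPrime M))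

end Groth.L14.NLAmp
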