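import Mathlib.RingTheory.Extension.Cotangent.Basic
import Mathlib.RingTheory.Flat.Basic
import Mathlib.Algebra.Module.Projective
import Mathlib.LinearAlgebra.Pi
import Mathlib.LinearAlgebra.TensorProduct.Prod

/-! # The conormal module of a presentation is a retract of any other one plus a free module -/

set_option autoImplicit false
universe u v w w'

set_option linter.style.haveILetI false

namespace Groth.L14.NLAmp

open Algebra

variable {R : Type u} {S : Type v} [CommRing R] [CommRing S] [Algebra R S]
  {P : Extension.{w} R S} {P' : Extension.{w'} R S}

noncomputable def incl (f : P.Hom P') : P.Cotangent →ₗ[S] P'.Cotangent × P.CotangentSpace :=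
  (Extension.Cotangent.map f).prod P.cotangentComplex

noncomputable def retr (f : P.Hom P') (g : P'.Hom P) : P'.Cotangent × P.CotangentSpace →ₗ[S] P.Cotangent :=
  (Extension.Cotangent.map g).coprod ((Extension.Hom.id P).sub (g.comp f))

theorem retr_incl (f : P.Hom P') (g : P'.Hom P) : retr f g ∘ₗ incl f = LinearMap.id := by
  refine LinearMap.ext fun x => ?_
  have h := LinearMap.congr_fun (Extension.Cotangent.map_sub_map (Extension.Hom.id P) (g.comp f)) x
  rw [LinearMap.sub_apply, Extension.Cotangent.map_id, Extension.Cotangent.map_comp, LinearMap.id_apply,
    LinearMap.comp_apply] at h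
  show Extension.Cotangent.map g (Extension.Cotangent.map f x) +
    (Extension.Hom.id P).sub (g.comp f) (P.cotangentComplex x) = x
  rw [← LinearMap.comp_apply (f := (Extension.Hom.id P).sub (g.comp f)), ← h]
  simp

end Groth.L14.NLAmp

namespace Groth.L14.NLAmp

open Algebra

variable {R : Type u} {S : Type v} [CommRing R] [CommRing S] [Algebra R S]
  {P : Extension.{w} R S} {P' : Extension.{w'} R S}

theorem flat_prod {C M N : Type v} [CommRing C] [AddCommGroup M] [Module C M] [AddCommGroup N] [Module C N]
    [Module.Flat C M] [Module.Flat C N] : Module.Flat C (M × N) := by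
  rw [Module.Flat.iff_lTensor_preserves_injective_linearMap]
  intro P P' _ _ _ _ f hf
  have key : LinearMap.comp (TensorProduct.prodLeft C C M N P').toLinearMap (f.lTensor (M × N)) =
      ((f.lTensor M).prodMap (f.lTensor N)).comp (TensorProduct.prodLeft C C M N P).toLinearMap :=
    TensorProduct.ext' fun ⟨m, n⟩ p => by simp
  have : Function.Injective
      (LinearMap.comp (TensorProduct.prodLeft C C M N P').toLinearMap (f.lTensor (M × N))) := by
    rw [key]
    exact ((Module.Flat.lTensor_preserves_injective_linearMap f hf).prodMap
      (Module.Flat.lTensor_preserves_injective_linearMap f hf)).comp (LinearEquiv.injective _)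
  exact Function.Injective.of_comp (f := TensorProduct.prodLeft C C M N P') this

theorem flat_of_homs {P : Extension.{v} R S} {P' : Extension.{v} R S} (f : P.Hom P') (g : P'.Hom P)
    [Module.Flat S P'.Cotangent] [Module.Flat S P.CotangentSpace] : Module.Flat S P.Cotangent :=
  haveI : Module.Flat S (P'.Cotangent × P.CotangentSpace) := flat_prod
  Module.Flat.of_retract _ _ (retr_incl f g)

theorem projective_of_homs (f : P.Hom P') (g : P'.Hom P) [Module.Projective S P'.Cotangent]
    [Module.Projective S P.CotangentSpace] : Module.Projective S P.Cotangent :=
  Module.Projective.of_split _ _ (retr_incl f g)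

variable {R S : Type u} [CommRing R] [CommRing S] [Algebra R S] {ι : Type u} {n : ℕ}

theorem flat_of_fin (G : Generators R S ι) (G' : Generators R S (Fin n))
    (h : Module.Flat S G'.toExtension.Cotangent) : Module.Flat S G.toExtension.Cotangent := by
  haveI : Module.Free S G.toExtension.CotangentSpace := Module.Free.of_basis G.cotangentSpaceBasis
  exact flat_of_homs (Generators.defaultHom G G').toExtensionHom (Generators.defaultHom G' G).toExtensionHom

theorem flat_fin_of (G : Generators R S ι) (G' : Generators R S (Fin n))
    (h : Module.Flat S G.toExtension.Cotangent) : Module.Flat S G'.toExtension.Cotangent := by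
  haveI : Module.Free S G'.toExtension.CotangentSpace := Module.Free.of_basis G'.cotangentSpaceBasis
  exact flat_of_homs (Generators.defaultHom G' G).toExtensionHom (Generators.defaultHom G G').toExtensionHom

end Groth.L14.NLAmp
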