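import Groth.Agent.L14.NLAmp.CI
import Groth.Agent.L14.NLAmp.Retract
import Groth.Agent.L19.Thick.LciConormal
import Groth.Agent.L10.DRing.Modules
import Groth.Prelude.Def_LCI2

/-! # Tor amplitude of the naive cotangent complex and local complete intersections -/

set_option autoImplicit false
set_option linter.style.haveILetI false
set_option maxSynthPendingDepth 3
set_option backward.isDefEq.respectTransparency false

universe u

open CategoryTheory CategoryTheory.Limits CategoryTheory.Pretriangulated

attribute [local instance] HasDerivedCategory.standard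

namespace Groth.L14.NLAmp

open Algebra

variable {R B : Type u} [CommRing R] [CommRing B] [Algebra R B] {n : ℕ}

/-- Generators from a presentation. -/
noncomputable def gens (π : MvPolynomial (Fin n) R →ₐ[R] B) (hπ : Function.Surjective π) :
    Generators R B (Fin n) :=
  Generators.ofSurjective (fun i => π (MvPolynomial.X i)) (by
    rw [show MvPolynomial.aeval (fun i => π (MvPolynomial.X i)) = π from MvPolynomial.algHom_ext (by simp)]
    exact hπ)

theorem algebraMap_gens (π : MvPolynomial (Fin n) R →ₐ[R] B) (hπ : Function.Surjective π)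
    (a : MvPolynomial (Fin n) R) :
    algebraMap (gens π hπ).toExtension.Ring B a = π a := by
  show MvPolynomial.aeval (fun i => π (MvPolynomial.X i)) a = π a
  rw [show MvPolynomial.aeval (fun i => π (MvPolynomial.X i)) = π from MvPolynomial.algHom_ext (by simp)]

/-- The relations of a presentation map onto its conormal module. -/
theorem exists_cot (π : MvPolynomial (Fin n) R →ₐ[R] B) (hπ : Function.Surjective π) :
    ∃ c : RingHom.ker π →+ (gens π hπ).toExtension.Cotangent, Function.Surjective c ∧
      (∀ (a : MvPolynomial (Fin n) R) (j : RingHom.ker π), c (a • j) = π a • c j) ∧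
      (∀ j, c j = 0 ↔ (j : MvPolynomial (Fin n) R) ∈ RingHom.ker π ^ 2) := by
  let E := (gens π hπ).toExtension
  have hk : E.ker = RingHom.ker π := by
    ext a
    show algebraMap E.Ring B a = 0 ↔ π a = 0
    rw [algebraMap_gens π hπ a]
  let f : RingHom.ker π →+ E.ker :=
    { toFun := fun j => ⟨j.1, hk.ge j.2⟩
      map_zero' := rfl
      map_add' := fun _ _ => rfl }
  refine ⟨(Extension.Cotangent.mk (P := E)).toAddMonoidHom.comp f, fun z => ?_, fun a j => ?_, fun j => ?_⟩
  · obtain ⟨⟨x, hx⟩, rfl⟩ := Extension.Cotangent.mk_surjective z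
    exact ⟨⟨x, hk.le hx⟩, rfl⟩
  · show Extension.Cotangent.mk (f (a • j)) = π a • Extension.Cotangent.mk (f j)
    rw [← algebraMap_gens π hπ a, algebraMap_smul]
    exact (Extension.Cotangent.mk (P := E)).map_smul (a : E.Ring) (f j)
  · show Extension.Cotangent.mk (f j) = 0 ↔ _
    rw [Extension.Cotangent.mk_eq_zero_iff]
    exact iff_of_eq (congrArg (fun I : Ideal _ => (j : MvPolynomial (Fin n) R) ∈ I ^ 2) hk)

theorem finite_cotangent [Algebra.FinitePresentation R B] (π : MvPolynomial (Fin n) R →ₐ[R] B)
    (hπ : Function.Surjective π) : Module.Finite B (gens π hπ).toExtension.Cotangent := by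
  refine Extension.Cotangent.finite ?_
  have hk : (gens π hπ).toExtension.ker = RingHom.ker π := by
    ext a
    show algebraMap (gens π hπ).toExtension.Ring B a = 0 ↔ π a = 0
    rw [algebraMap_gens π hπ a]
  rw [hk]
  exact Algebra.FinitePresentation.ker_fG_of_surjective π hπ

theorem isSyntomic_of_flat_self [Module.Flat R B] [Algebra.FinitePresentation R B]
    (h : Module.Flat B (Generators.self R B).toExtension.Cotangent) : Synt.IsSyntomic R B := by
  obtain ⟨d, π, hπ⟩ := Algebra.FiniteType.iff_quotient_mvPolynomial''.mp (inferInstance : Algebra.FiniteType R B)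
  obtain ⟨c, hc, hs, hk⟩ := exists_cot π hπ
  haveI := flat_fin_of (Generators.self R B) (gens π hπ) h
  haveI := finite_cotangent π hπ
  exact isSyntomic_of_flat_conormal π hπ c hc hs hk

theorem projective_transfer {A C M N : Type u} [CommRing A] [CommRing C] [AddCommGroup M] [AddCommGroup N]
    [Module A M] [Module C N] [Module.Projective A M] (e : A ≃+* C) (d : M →+ N) (hd : Function.Bijective d)
    (h : ∀ a m, d (a • m) = e a • d m) : Module.Projective C N := by
  haveI := RingHomInvPair.of_ringEquiv e
  haveI := RingHomInvPair.of_ringEquiv e.symm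
  let dl : M →ₛₗ[(e : A →+* C)] N := { toFun := d, map_add' := map_add d, map_smul' := h }
  exact Module.Projective.of_equiv (LinearEquiv.ofBijective dl hd)

theorem projective_of_cot (π : MvPolynomial (Fin n) R →ₐ[R] B) (hπ : Function.Surjective π)
    {M : Type u} [AddCommGroup M] [Module B M] (c : RingHom.ker π →+ M) (hc : Function.Surjective c)
    (hs : ∀ (a : MvPolynomial (Fin n) R) (j : RingHom.ker π), c (a • j) = π a • c j)
    (hk : ∀ j, c j = 0 ↔ (j : MvPolynomial (Fin n) R) ∈ RingHom.ker π ^ 2)
    [Module.Projective (MvPolynomial (Fin n) R ⧸ RingHom.ker π) (RingHom.ker π).Cotangent] :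
    Module.Projective B M := by
  let J := RingHom.ker π
  let t : J →+ J.Cotangent := J.toCotangent.toAddMonoidHom
  let d : J.Cotangent →+ M :=
    (t.liftOfSurjective J.toCotangent_surjective)
      ⟨c, fun j hj => (hk j).mpr ((J.toCotangent_eq_zero j).mp hj)⟩
  have hd : ∀ j, d (J.toCotangent j) = c j := fun j => AddMonoidHom.liftOfRightInverse_comp_apply _ _ _ _ j
  refine projective_transfer (Ideal.quotientKerAlgEquivOfSurjective hπ).toRingEquiv d ⟨?_, fun z => ?_⟩ ?_
  · refine (injective_iff_map_eq_zero d).mpr fun m hm => ?_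
    obtain ⟨j, rfl⟩ := J.toCotangent_surjective m
    exact (J.toCotangent_eq_zero j).mpr ((hk j).mp ((hd j).symm.trans hm))
  · obtain ⟨j, rfl⟩ := hc z
    exact ⟨J.toCotangent j, hd j⟩
  · intro s m
    obtain ⟨a, rfl⟩ := Ideal.Quotient.mk_surjective (I := J) s
    obtain ⟨j, rfl⟩ := J.toCotangent_surjective m
    have e2 : (Ideal.Quotient.mk J a : MvPolynomial (Fin n) R ⧸ J) • J.toCotangent j = J.toCotangent (a • j) :=
      (J.toCotangent.map_smul a j).symm
    rw [e2, hd, hs, hd]
    rfl

theorem projective_gens (π : MvPolynomial (Fin n) R →ₐ[R] B) (hπ : Function.Surjective π)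
    (h : LCI.IsKoszulRegularIdeal (RingHom.ker π)) :
    Module.Projective B (gens π hπ).toExtension.Cotangent := by
  obtain ⟨c, hc, hs, hk⟩ := exists_cot π hπ
  haveI := (Groth.L19.Thick.finite_projective_cotangent_of_regAt (RingHom.ker π)
    (Groth.L07.KoszulIdeal.isKoszulRegularIdeal_iff.mp h)).2
  exact projective_of_cot π hπ c hc hs hk

theorem flat_self_of_isLCI (h : LCI.IsLCI R B) :
    Module.Flat B (Generators.self R B).toExtension.Cotangent := by
  obtain ⟨-, d, π, hπ, hk⟩ := h
  haveI := projective_gens π hπ hk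
  exact flat_of_fin _ (gens π hπ) inferInstance

theorem isIso_trunc (K : DRing.Cx B) (a i : ℤ) (hi : a ≤ i) :
    IsIso ((Groth.L02.PC.truncι K a).f i) :=
  (ConcreteCategory.isIso_iff_bijective _).2 (Groth.L02.PC.truncι_bijective K a hi)

theorem vanishesOutside_NLcx (i : ℤ) (hi : i < -1 ∨ 0 < i) : IsZero ((LCI.NLcx R B).X i) :=
  HomologicalComplex.isZero_double_X _ _ i (by omega) (by omega)

theorem flat_NLcx_zero : Module.Flat B ((LCI.NLcx R B).X 0) := by
  haveI : Module.Free B (Generators.self R B).toExtension.CotangentSpace :=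
    Module.Free.of_basis (Generators.self R B).cotangentSpaceBasis
  exact Module.Flat.of_linearEquiv
    (HomologicalComplex.doubleXIso₁ (ModuleCat.ofHom (Generators.self R B).toExtension.cotangentComplex)
      (show (ComplexShape.up ℤ).Rel (-1) 0 by simp) (by omega)).toLinearEquiv

theorem amp_of_flat_self (h : Module.Flat B (Generators.self R B).toExtension.Cotangent) :
    DRing.HasTorAmplitudeIn B (-1) 0 (LCI.NL R B) := by
  refine ⟨LCI.NLcx R B, vanishesOutside_NLcx, fun i => ?_, ⟨Iso.refl _⟩⟩
  rcases eq_or_ne i 0 with rfl | h0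
  · exact flat_NLcx_zero
  · rcases eq_or_ne i (-1) with rfl | h1
    · exact Module.Flat.of_linearEquiv
        (HomologicalComplex.doubleXIso₀ (ModuleCat.ofHom (Generators.self R B).toExtension.cotangentComplex)
          (show (ComplexShape.up ℤ).Rel (-1) 0 by simp)).toLinearEquiv
    · haveI := ModuleCat.subsingleton_of_isZero (vanishesOutside_NLcx (R := R) (B := B) i (by omega))
      exact inferInstance

theorem flat_self_of_amp (h : DRing.HasTorAmplitudeIn B (-1) 0 (LCI.NL R B)) :
    Module.Flat B (Generators.self R B).toExtension.Cotangent := by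
  let E := LCI.NLcx R B
  obtain ⟨T, hT, h2, ⟨e1⟩, ⟨e3⟩⟩ :=
    Groth.L10.DR.exists_brutal_triangle E (-1) fun i hi => vanishesOutside_NLcx i (Or.inl hi)
  have a2 : DRing.HasTorAmplitudeIn B (-1) 0 T.obj₂ := h2 ▸ h
  have a1 : DRing.HasTorAmplitudeIn B (-1 + 1) (0 + 1) T.obj₁ := by
    refine Groth.L10.DR.amp_of_iso e1.symm ⟨Groth.L02.PC.trunc E (-1 + 1), fun i hi => ?_, fun i => ?_, ⟨Iso.refl _⟩⟩
    · by_cases hi' : (-1 : ℤ) + 1 ≤ i
      · haveI := isIso_trunc E _ i hi'
        exact (vanishesOutside_NLcx i (Or.inr (by omega))).of_iso (asIso ((Groth.L02.PC.truncι E (-1 + 1)).f i))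
      · exact Groth.L02.PC.isZero_trunc_X E (-1 + 1) (by omega)
    · by_cases hi' : (-1 : ℤ) + 1 ≤ i
      · haveI := isIso_trunc E _ i hi'
        haveI : Module.Flat B (E.X i) := by
          rcases eq_or_ne i 0 with rfl | h0
          · exact flat_NLcx_zero
          · haveI := ModuleCat.subsingleton_of_isZero (vanishesOutside_NLcx (R := R) (B := B) i (by omega))
            exact inferInstance
        exact Module.Flat.of_linearEquiv (asIso ((Groth.L02.PC.truncι E (-1 + 1)).f i)).toLinearEquiv
      · haveI := ModuleCat.subsingleton_of_isZero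
          (Groth.L02.PC.isZero_trunc_X E (-1 + 1) (i := i) (by omega))
        exact inferInstance
  have a3 := Groth.L10.DR.amp_shift (Groth.L10.DR.amp_of_iso e3 (Groth.L10.DR.amp_third T hT a1 a2)) (-1)
  have eS : (Groth.L10.DR.single (-1) (E.X (-1)))⟦(-1 : ℤ)⟧ ≅
      Dual.inD B ((Generators.self R B).toExtension.Cotangent) :=
    ((DerivedCategory.singleFunctors (ModuleCat.{u} B)).shiftIso (-1) 0 (-1) (by omega)).app _ ≪≫
      (DerivedCategory.singleFunctor (ModuleCat.{u} B) 0).mapIso
        (HomologicalComplex.doubleXIso₀ (ModuleCat.ofHom (Generators.self R B).toExtension.cotangentComplex)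
          (show (ComplexShape.up ℤ).Rel (-1) 0 by simp))
  exact Groth.L10.DR.flat_of_amp (b := 1) (by simpa using Groth.L10.DR.amp_of_iso eS a3)

end Groth.L14.NLAmp
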