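import Groth.Agent.L14.NLAmp.Fibre
import Groth.Agent.L07.SyntLCI
import Groth.Agent.L04.RegularPd
import Groth.Agent.S2189
import Mathlib.RingTheory.LocalProperties.ProjectiveDimension
import Mathlib.RingTheory.Regular.Flat
import Mathlib.RingTheory.Localization.Away.Basic

/-! # A flat algebra with flat conormal module is syntomic -/

set_option autoImplicit false
set_option linter.style.haveILetI false
set_option maxSynthPendingDepth 3

universe u

namespace Groth.L14.NLAmp

open CategoryTheory Groth.L07.CILocus

/-- Finitely generated modules over a polynomial ring over a field have finite projective dimension. -/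
theorem hasProjectiveDimensionLE_poly {k : Type u} [Field k] {n : ℕ}
    (M : ModuleCat.{u} (MvPolynomial (Fin n) k)) [Module.Finite (MvPolynomial (Fin n) k) M] :
    HasProjectiveDimensionLE M n := by
  rw [ModuleCat.hasProjectiveDimensionLE_iff_forall_maximalSpectrum]
  intro m
  haveI : IsRegularLocalRing (Localization.AtPrime m.asIdeal) :=
    IsRegularRing.isRegularLocalRing_localization _
  have hle : ringKrullDim (Localization.AtPrime m.asIdeal) ≤ (n : WithBot ℕ∞) := by
    rw [IsLocalization.AtPrime.ringKrullDim_eq_height m.asIdeal (Localization.AtPrime m.asIdeal)]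
    refine (Ideal.height_le_ringKrullDim_of_ne_top m.isMaximal.ne_top).trans (le_of_eq ?_)
    rw [MvPolynomial.ringKrullDim_of_isNoetherianRing, ringKrullDim_eq_zero_of_field, zero_add]
    simp
  obtain ⟨d, hd⟩ : ∃ d : ℕ, ringKrullDim (Localization.AtPrime m.asIdeal) = d := by
    obtain ⟨d, hd⟩ := ENat.ne_top_iff_exists.mp (Ideal.height_ne_top (I := m.asIdeal) m.isMaximal.ne_top)
    exact ⟨d, by rw [IsLocalization.AtPrime.ringKrullDim_eq_height m.asIdeal, ← hd]; rfl⟩
  haveI := Groth.L04.hasProjectiveDimensionLE_of_regularLocal hd (M.localizedModule m.asIdeal.primeCompl)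
  exact hasProjectiveDimensionLT_of_ge _ (d + 1) (n + 1) (by
    rw [hd] at hle
    have : d ≤ n := by exact_mod_cast hle
    omega)

variable {R : Type u} [CommRing R] {n : ℕ} {B : Type u} [CommRing B] [Algebra R B]

set_option maxHeartbeats 1000000 in
theorem isSyntomic_of_flat_conormal [Module.Flat R B] [Algebra.FinitePresentation R B]
    (π : MvPolynomial (Fin n) R →ₐ[R] B) (hπ : Function.Surjective π)
    {M : Type u} [AddCommGroup M] [Module B M] [Module.Flat B M] [Module.Finite B M]
    (c : RingHom.ker π →+ M) (hc : Function.Surjective c)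
    (hsmul : ∀ (a : MvPolynomial (Fin n) R) (j : RingHom.ker π), c (a • j) = π a • c j)
    (hker : ∀ j, c j = 0 ↔ (j : MvPolynomial (Fin n) R) ∈ RingHom.ker π ^ 2) :
    Synt.IsSyntomic R B := by
  let J := RingHom.ker π
  let e : (MvPolynomial (Fin n) R ⧸ J) ≃ₐ[R] B := Ideal.quotientKerAlgEquivOfSurjective hπ
  refine Groth.L07.SyntAlg.isSyntomic_of_algEquiv e ?_
  haveI : Algebra.FinitePresentation R (MvPolynomial (Fin n) R ⧸ J) := Algebra.FinitePresentation.equiv e.symm
  refine Groth.L07.SyntAlg.isSyntomic_iff.mpr ⟨Module.Flat.of_linearEquiv e.toLinearEquiv, fun P => ?_⟩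
  refine (ciAt_iff J P).mpr ?_
  let p := PrimeSpectrum.comap (algebraMap R (MvPolynomial (Fin n) R ⧸ J)) P
  let A := MvPolynomial (Fin n) p.asIdeal.ResidueField
  let Jk : Ideal A := J.map (θ p)
  let Q := polPrime J P
  haveI : Module.Projective (A ⧸ Jk) Jk.Cotangent := projective_fibre π hπ c hc hsmul hker p
  obtain ⟨g, hg, rs, hrs, hgen⟩ := Groth.Agent.S2189.result Jk (n + 1)
    (hasProjectiveDimensionLE_poly (ModuleCat.of A Jk)) Q (map_le_polPrime J P)
  let S := Localization.AtPrime Q
  let ψ : Localization.Away g →+* S :=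
    IsLocalization.Away.lift g (g := algebraMap A S) (IsLocalization.map_units S (⟨g, hg⟩ : Q.primeCompl))
  letI : Algebra (Localization.Away g) S := ψ.toAlgebra
  haveI : IsScalarTower A (Localization.Away g) S :=
    IsScalarTower.of_algebraMap_eq fun x => (IsLocalization.Away.lift_eq g _ x).symm
  haveI : IsLocalization (Algebra.algebraMapSubmonoid (Localization.Away g) Q.primeCompl) S :=
    IsLocalization.isLocalization_of_submonoid_le (Localization.Away g) S (Submonoid.powers g) Q.primeCompl
      (Submonoid.powers_le.mpr hg)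
  haveI : Module.Flat (Localization.Away g) S :=
    IsLocalization.flat S (Algebra.algebraMapSubmonoid (Localization.Away g) Q.primeCompl)
  refine ⟨rs.map (algebraMap (Localization.Away g) S), ⟨?_, ?_⟩, ?_⟩
  · exact hrs.toIsWeaklyRegular.of_flat
  · intro htop
    rw [smul_eq_mul, Ideal.mul_top, ← Ideal.map_ofList, hgen, Ideal.map_map,
      ← IsScalarTower.algebraMap_eq] at htop
    have hle : Jk.map (algebraMap A S) ≤ IsLocalRing.maximalIdeal S := by
      exact (Ideal.map_mono (map_le_polPrime J P)).trans (le_of_eq (Localization.AtPrime.map_eq_maximalIdeal (I := Q)))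
    exact (IsLocalRing.maximalIdeal.isMaximal S).ne_top (top_le_iff.mp (htop.le.trans hle))
  · rw [← Ideal.map_ofList, hgen, Ideal.map_map, ← IsScalarTower.algebraMap_eq]

end Groth.L14.NLAmp
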