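import Groth.Agent.L07.CILocus
import Mathlib.RingTheory.Flat.EquationalCriterion
import Mathlib.RingTheory.Flat.Stability
import Mathlib.RingTheory.Ideal.Cotangent

/-! # A flat conormal module of a flat algebra stays flat in the fibres -/

set_option autoImplicit false
set_option linter.style.haveILetI false
set_option maxSynthPendingDepth 3

universe u

namespace Groth.L14.NLAmp

open Groth.L07.CILocus TensorProduct MvPolynomial

variable {R : Type u} [CommRing R] {n : ℕ}

/-- Extended ideals of the base meet the relations of a flat algebra in products. -/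
theorem mem_smul_of_mem {B : Type u} [CommRing B] [Algebra R B] [Module.Flat R B] (π : MvPolynomial (Fin n) R →ₐ[R] B)
    (hπ : Function.Surjective π) (p : Ideal R) {z : MvPolynomial (Fin n) R} (hz : z ∈ p.map MvPolynomial.C)
    (hzJ : π z = 0) :
    ∃ (ι : Type) (_ : Fintype ι) (r : ι → R) (j : ι → RingHom.ker π),
      (∀ i, r i ∈ p) ∧ z = ∑ i, MvPolynomial.C (r i) * (j i : MvPolynomial (Fin n) R) := by
  classical
  obtain ⟨c, x, hc, hx⟩ : ∃ (c : Fin z.support.card → R) (x : Fin z.support.card → MvPolynomial (Fin n) R),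
      (∀ i, c i ∈ p) ∧ z = ∑ i, MvPolynomial.C (c i) * x i := by
    let e := z.support.equivFin.symm
    refine ⟨fun i => z.coeff (e i).1, fun i => MvPolynomial.monomial (e i).1 1,
      fun i => MvPolynomial.mem_map_C_iff.mp hz _, ?_⟩
    rw [Equiv.sum_comp e (fun m : z.support => MvPolynomial.C (z.coeff m.1) * MvPolynomial.monomial m.1 1)]
    conv_lhs => rw [z.as_sum]
    rw [← Finset.sum_coe_sort]
    exact Finset.sum_congr rfl fun m _ => by simp [MvPolynomial.C_mul_monomial]
  have hrel : ∑ i, c i • π (x i) = 0 := by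
    refine Eq.trans ?_ hzJ
    rw [congrArg π hx, map_sum]
    exact Finset.sum_congr rfl fun i _ => by rw [map_mul, Algebra.smul_def]; exact congrArg (· * π (x i)) (π.commutes _).symm
  obtain ⟨κ, a, y, hy, ha⟩ := Module.Flat.isTrivialRelation_of_sum_smul_eq_zero (R := R) (M := B) hrel
  choose Y hY using fun l => hπ (y l)
  refine ⟨Fin z.support.card, inferInstance, c,
    fun i => ⟨x i - ∑ l, MvPolynomial.C (a i l) * Y l, ?_⟩, hc, ?_⟩
  · rw [RingHom.mem_ker, map_sub, map_sum, show π (x i) = _ from hy i, sub_eq_zero]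
    exact Finset.sum_congr rfl fun l _ => by
      rw [map_mul, Algebra.smul_def, hY]
      exact congrArg (· * y l) (π.commutes _).symm
  · have h0 : ∑ i, MvPolynomial.C (c i) * ∑ l, MvPolynomial.C (a i l) * Y l = 0 := by
      simp only [Finset.mul_sum, ← mul_assoc, ← map_mul]
      rw [Finset.sum_comm]
      refine Finset.sum_eq_zero fun l _ => ?_
      rw [← Finset.sum_mul, ← map_sum, ha l, map_zero, zero_mul]
    show z = ∑ i, MvPolynomial.C (c i) * (x i - ∑ l, MvPolynomial.C (a i l) * Y l)
    simp only [mul_sub, Finset.sum_sub_distrib, h0, sub_zero]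
    exact hx

section

variable {B : Type u} [CommRing B] [Algebra R B] [Module.Flat R B] (π : MvPolynomial (Fin n) R →ₐ[R] B) (hπ : Function.Surjective π)
  {M : Type u} [AddCommGroup M] [Module B M] (c : RingHom.ker π →+ M) (hc : Function.Surjective c)
  (hsmul : ∀ (a : MvPolynomial (Fin n) R) (j : RingHom.ker π), c (a • j) = π a • c j)
  (hker : ∀ j, c j = 0 ↔ (j : MvPolynomial (Fin n) R) ∈ RingHom.ker π ^ 2)

include hπ hc hsmul hker

set_option maxHeartbeats 1000000 in
/-- The conormal module of the fibre is the base change of the conormal module. -/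
theorem projective_fibre [Module.Flat B M] [Module.Finite B M] (p : PrimeSpectrum R) :
    Module.Projective (MvPolynomial (Fin n) p.asIdeal.ResidueField ⧸ (RingHom.ker π).map (θ p))
      ((RingHom.ker π).map (θ (d := n) p)).Cotangent := by
  classical
  let J := RingHom.ker π
  let P := MvPolynomial (Fin n) p.asIdeal.ResidueField
  let Jk := J.map (θ (d := n) p)
  let S := P ⧸ Jk
  let eB : (MvPolynomial (Fin n) R ⧸ J) ≃ₐ[R] B := Ideal.quotientKerAlgEquivOfSurjective hπ
  let φ : B →+* S := (Ideal.quotientMap Jk (θ p) Ideal.le_comap_map).comp eB.symm.toRingEquiv.toRingHom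
  have hφ : ∀ a, φ (π a) = Ideal.Quotient.mk Jk (θ p a) := fun a => by
    show Ideal.quotientMap Jk (θ p) Ideal.le_comap_map (eB.symm (π a)) = _
    rw [show eB.symm (π a) = Ideal.Quotient.mk J a from eB.injective (by rw [eB.apply_symm_apply]; rfl)]
    rfl
  letI : Algebra B S := φ.toAlgebra
  let Mk := S ⊗[B] M
  haveI : Module.FinitePresentation S Mk := Module.finitePresentation_of_finite S Mk
  haveI : Module.Projective S Mk := Module.Flat.projective_of_finitePresentation
  -- the comparison map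
  have hmem : ∀ j : J, θ p (j : MvPolynomial (Fin n) R) ∈ Jk := fun j => Ideal.mem_map_of_mem _ j.2
  let g₀ : J →+ Jk.Cotangent :=
    Jk.toCotangent.toAddMonoidHom.comp
      { toFun := fun j => (⟨θ p j, hmem j⟩ : Jk)
        map_zero' := Subtype.ext (map_zero (θ p))
        map_add' := fun a b => Subtype.ext (map_add (θ p) _ _) }
  have hg₀ : ∀ j, g₀ j = Jk.toCotangent ⟨θ p j, hmem j⟩ := fun j => rfl
  have hg₀sq : ∀ j, c j = 0 → g₀ j = 0 := fun j hj => by
    rw [hg₀, Ideal.toCotangent_eq_zero, ← Ideal.map_pow]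
    exact Ideal.mem_map_of_mem _ ((hker j).mp hj)
  let g : M →+ Jk.Cotangent :=
    (c.liftOfSurjective hc) ⟨g₀, fun j hj => hg₀sq j hj⟩
  have hg : ∀ j, g (c j) = g₀ j := fun j => AddMonoidHom.liftOfRightInverse_comp_apply _ _ _ _ j
  letI : Module B Jk.Cotangent := Module.compHom _ φ
  haveI : IsScalarTower B S Jk.Cotangent := IsScalarTower.of_algebraMap_smul fun b m => rfl
  let gl : M →ₗ[B] Jk.Cotangent :=
    { g with
      map_smul' := fun b m => by
        obtain ⟨a, rfl⟩ := hπ b
        obtain ⟨j, rfl⟩ := hc m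
        show g (π a • c j) = φ (π a) • g (c j)
        rw [← hsmul, hg, hg, hφ, hg₀, hg₀]
        show _ = Jk.toCotangent (θ p a • ⟨θ p j, hmem j⟩)
        exact congrArg Jk.toCotangent (Subtype.ext (map_mul (θ p) a j)) }
  let ψ : Mk →ₗ[S] Jk.Cotangent := gl.liftBaseChange S
  -- scalars of the base
  let u : R → S := fun r => Ideal.Quotient.mk Jk (MvPolynomial.C (algebraMap R p.asIdeal.ResidueField r))
  have hθC : ∀ r : R, θ (d := n) p (MvPolynomial.C r) = MvPolynomial.C (algebraMap R p.asIdeal.ResidueField r) :=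
    fun r => MvPolynomial.map_C _ _
  have hu : ∀ r ∉ p.asIdeal, IsUnit (u r) := fun r hr =>
    ((isUnit_iff_ne_zero.mpr fun h0 =>
      hr (Ideal.algebraMap_residueField_eq_zero.mp h0)).map MvPolynomial.C).map _
  have hu1 : (1 : R) ∉ p.asIdeal := fun h => p.2.ne_top ((Ideal.eq_top_iff_one _).mpr h)
  have hmove : ∀ (a : MvPolynomial (Fin n) R) (j : J),
      (1 : S) ⊗ₜ[B] c (a • j) = Ideal.Quotient.mk Jk (θ p a) • ((1 : S) ⊗ₜ[B] c j) := fun a j => by
    rw [hsmul, TensorProduct.tmul_smul, ← algebraMap_smul S (π a) ((1 : S) ⊗ₜ[B] c j)]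
    congr 1
    exact hφ a
  -- every element is a fraction of a relation
  have hfrac : ∀ z : Mk, ∃ r ∉ p.asIdeal, ∃ j : J, u r • z = (1 : S) ⊗ₜ[B] c j := by
    intro z
    induction z using TensorProduct.induction_on with
    | zero => exact ⟨1, hu1, 0, by simp⟩
    | tmul s m =>
      obtain ⟨j, rfl⟩ := hc m
      obtain ⟨x, rfl⟩ := Ideal.Quotient.mk_surjective s
      obtain ⟨r, hr, y, hy⟩ := exists_lift p x
      refine ⟨r, hr, y • j, ?_⟩
      rw [hmove, TensorProduct.smul_tmul', TensorProduct.smul_tmul', hy, map_mul]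
      simp [u, smul_eq_mul]
    | add a b ha hb =>
      obtain ⟨r, hr, j, hj⟩ := ha
      obtain ⟨r', hr', j', hj'⟩ := hb
      refine ⟨r * r', fun h => (p.2.mem_or_mem h).elim hr hr',
        (MvPolynomial.C r' : MvPolynomial (Fin n) R) • j + (MvPolynomial.C r : MvPolynomial (Fin n) R) • j', ?_⟩
      have hm : u (r * r') = u r * u r' := by simp [u, map_mul]
      rw [map_add, TensorProduct.tmul_add, hmove, hmove, ← hj, ← hj', hθC, hθC, smul_smul, smul_smul, smul_add, hm]
      congr 1
      exact congrArg (· • a) (mul_comm _ _)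
  -- relations vanishing in the fibre
  have hvanish : ∀ j : J, θ p (j : MvPolynomial (Fin n) R) = 0 → (1 : S) ⊗ₜ[B] c j = 0 := by
    intro j hj
    have hcoef : ∀ m, algebraMap R p.asIdeal.ResidueField ((j : MvPolynomial (Fin n) R).coeff m) = 0 := fun m => by
      rw [← MvPolynomial.coeff_map]
      exact (congrArg (fun q : P => q.coeff m) hj).trans (MvPolynomial.coeff_zero m)
    have hjp : (j : MvPolynomial (Fin n) R) ∈ p.asIdeal.map MvPolynomial.C :=
      MvPolynomial.mem_map_C_iff.mpr fun m => Ideal.algebraMap_residueField_eq_zero.mp (hcoef m)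
    obtain ⟨ι, _, r, k, hr, he⟩ := mem_smul_of_mem π hπ p.asIdeal hjp j.2
    have hj' : j = ∑ i, MvPolynomial.C (r i) • k i := Subtype.ext (by
      rw [he, AddSubmonoidClass.coe_finsetSum]
      exact Finset.sum_congr rfl fun i _ => by rw [Submodule.coe_smul, smul_eq_mul])
    rw [hj', map_sum, TensorProduct.tmul_sum]
    refine Finset.sum_eq_zero fun i _ => ?_
    rw [hmove, hθC, Ideal.algebraMap_residueField_eq_zero.mpr (hr i), map_zero, map_zero, zero_smul]
  have hψ : ∀ j, ψ ((1 : S) ⊗ₜ[B] c j) = g₀ j := fun j => by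
    rw [LinearMap.liftBaseChange_tmul, one_smul]
    exact hg j
  have hinj : Function.Injective ψ := by
    refine (injective_iff_map_eq_zero ψ).mpr fun z hz => ?_
    obtain ⟨r, hr, j, hj⟩ := hfrac z
    have h1 : g₀ j = 0 := by rw [← hψ, ← hj, map_smul, hz, smul_zero]
    rw [hg₀, Ideal.toCotangent_eq_zero, ← Ideal.map_pow] at h1
    obtain ⟨r', hr', y, hy, hyj⟩ := exists_lift_mem p (J ^ 2) h1
    let y' : J := ⟨y, Ideal.pow_le_self two_ne_zero hy⟩
    have hd : θ p (((MvPolynomial.C r' : MvPolynomial (Fin n) R) • j - y' : J) : MvPolynomial (Fin n) R) = 0 := by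
      show θ p (MvPolynomial.C r' * (j : MvPolynomial (Fin n) R) - y) = 0
      rw [map_sub, map_mul, hθC, hyj, sub_self]
    have h2 := hvanish _ hd
    rw [map_sub, (hker y').mpr hy, sub_zero, hmove, hθC, ← hj, smul_smul] at h2
    exact ((hu r' hr').mul (hu r hr)).smul_eq_zero.mp h2
  have hsurj : Function.Surjective ψ := by
    intro z
    obtain ⟨⟨x, hx⟩, rfl⟩ := Jk.toCotangent_surjective z
    obtain ⟨r, hr, y, hy, hyx⟩ := exists_lift_mem p J hx
    obtain ⟨w, hw⟩ := (hu r hr).exists_left_inv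
    refine ⟨w • ((1 : S) ⊗ₜ[B] c ⟨y, hy⟩), ?_⟩
    rw [map_smul, hψ, hg₀]
    have he : (⟨θ p y, hmem ⟨y, hy⟩⟩ : Jk) = MvPolynomial.C (algebraMap R p.asIdeal.ResidueField r) • ⟨x, hx⟩ :=
      Subtype.ext (by rw [Submodule.coe_smul, smul_eq_mul]; exact hyx)
    rw [he, map_smul]
    show w • (u r • Jk.toCotangent ⟨x, hx⟩) = _
    rw [smul_smul, hw, one_smul]
  exact Module.Projective.of_equiv (LinearEquiv.ofBijective ψ ⟨hinj, hsurj⟩)

end

end Groth.L14.NLAmp
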