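import Groth.Agent.L14.NLAmp.Main
import Mathlib.Algebra.Homology.QuasiIso

/-! # The naive cotangent complex is the two term complex of any presentation -/

set_option autoImplicit false
set_option linter.style.haveILetI false
set_option maxSynthPendingDepth 3
set_option backward.isDefEq.respectTransparency false

universe u

open CategoryTheory CategoryTheory.Limits

attribute [local instance] HasDerivedCategory.standard

namespace Groth.L14.NLAmp

open Algebra

section

variable {B : Type u} [CommRing B]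

theorem rel10 : (ComplexShape.up ℤ).Rel (-1) 0 := by simp

/-- A two term complex. -/
noncomputable abbrev dbl {X Y : Type u} [AddCommGroup X] [Module B X] [AddCommGroup Y] [Module B Y]
    (d : X →ₗ[B] Y) : DRing.Cx B := HomologicalComplex.double (ModuleCat.ofHom d) rel10

variable {X Y X' Y' : Type u} [AddCommGroup X] [Module B X] [AddCommGroup Y] [Module B Y]
  [AddCommGroup X'] [Module B X'] [AddCommGroup Y'] [Module B Y'] (d : X →ₗ[B] Y) (d' : X' →ₗ[B] Y')

/-- A map of two term complexes. -/
noncomputable def dblMap (a : X →ₗ[B] X') (b : Y →ₗ[B] Y') (h : b ∘ₗ d = d' ∘ₗ a) : dbl d ⟶ dbl d' :=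
  HomologicalComplex.mkHomFromDouble rel10 (by omega)
    (ModuleCat.ofHom a ≫ (HomologicalComplex.doubleXIso₀ (ModuleCat.ofHom d') rel10).inv)
    (ModuleCat.ofHom b ≫ (HomologicalComplex.doubleXIso₁ (ModuleCat.ofHom d') rel10 (by omega)).inv)
    (by
      rw [HomologicalComplex.double_d _ _ (by omega : (-1 : ℤ) ≠ 0)]
      simp only [Category.assoc, Iso.inv_hom_id_assoc]
      rw [← Category.assoc, ← Category.assoc (ModuleCat.ofHom d), ← ModuleCat.ofHom_comp, ← ModuleCat.ofHom_comp, h])
    (fun k hk => by rw [HomologicalComplex.double_d_eq_zero₀ _ _ _ _ (by omega), comp_zero])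

/-- The homotopy data. -/
noncomputable def htData (s : Y →ₗ[B] X) : ∀ i j : ℤ, (ComplexShape.up ℤ).Rel j i → ((dbl d).X i ⟶ (dbl d).X j) :=
  fun i j hij =>
    if hi : i = 0 then
      eqToHom (by rw [hi]) ≫ (HomologicalComplex.doubleXIso₁ (ModuleCat.ofHom d) rel10 (by omega)).hom ≫
        ModuleCat.ofHom s ≫ (HomologicalComplex.doubleXIso₀ (ModuleCat.ofHom d) rel10).inv ≫
        eqToHom (by rw [show j = -1 by simp at hij; omega])
    else 0

theorem htData_zero (s : Y →ₗ[B] X) (hij : (ComplexShape.up ℤ).Rel (-1) 0) :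
    htData d s 0 (-1) hij = (HomologicalComplex.doubleXIso₁ (ModuleCat.ofHom d) rel10 (by omega)).hom ≫
      ModuleCat.ofHom s ≫ (HomologicalComplex.doubleXIso₀ (ModuleCat.ofHom d) rel10).inv := by
  simp [htData]

theorem nonempty_homotopy (a : X →ₗ[B] X') (b : Y →ₗ[B] Y') (a' : X' →ₗ[B] X) (b' : Y' →ₗ[B] Y)
    (h : b ∘ₗ d = d' ∘ₗ a) (h' : b' ∘ₗ d' = d ∘ₗ a') (s : Y →ₗ[B] X)
    (hX : LinearMap.id - a' ∘ₗ a = s ∘ₗ d) (hY : LinearMap.id - b' ∘ₗ b = d ∘ₗ s) :
    Nonempty (Homotopy (dblMap d d' a b h ≫ dblMap d' d a' b' h') (𝟙 (dbl d))) := by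
  have key : 𝟙 (dbl d) - dblMap d d' a b h ≫ dblMap d' d a' b' h' =
      Homotopy.nullHomotopicMap' (htData d s) := by
    refine HomologicalComplex.from_double_hom_ext ?_ ?_
    · rw [Homotopy.nullHomotopicMap'_f (show (ComplexShape.up ℤ).Rel (-2) (-1) by simp) rel10, htData_zero]
      have hz : htData d s (-1) (-2) (by simp) = 0 := dif_neg (by omega)
      rw [hz, zero_comp, add_zero, HomologicalComplex.double_d _ _ (by omega : (-1 : ℤ) ≠ 0),
        HomologicalComplex.sub_f_apply, HomologicalComplex.id_f, HomologicalComplex.comp_f]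
      simp only [dblMap, HomologicalComplex.mkHomFromDouble_f₀, Category.assoc, Iso.inv_hom_id_assoc]
      rw [← cancel_epi (HomologicalComplex.doubleXIso₀ (ModuleCat.ofHom d) rel10).inv,
        ← cancel_mono (HomologicalComplex.doubleXIso₀ (ModuleCat.ofHom d) rel10).hom]
      simp only [Preadditive.comp_sub, Preadditive.sub_comp, Category.assoc, Iso.inv_hom_id_assoc,
        Iso.inv_hom_id, Category.comp_id]
      rw [← ModuleCat.ofHom_comp, ← ModuleCat.ofHom_comp, ← hX]
      rfl
    · rw [Homotopy.nullHomotopicMap'_f rel10 (show (ComplexShape.up ℤ).Rel 0 1 by simp), htData_zero]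
      rw [HomologicalComplex.double_d_eq_zero₀ _ _ (0 : ℤ) 1 (by omega), zero_comp, zero_add,
        HomologicalComplex.double_d _ _ (by omega : (-1 : ℤ) ≠ 0),
        HomologicalComplex.sub_f_apply, HomologicalComplex.id_f, HomologicalComplex.comp_f]
      simp only [dblMap, HomologicalComplex.mkHomFromDouble_f₁, Category.assoc, Iso.inv_hom_id_assoc]
      rw [← cancel_epi (HomologicalComplex.doubleXIso₁ (ModuleCat.ofHom d) rel10 (by omega)).inv,
        ← cancel_mono (HomologicalComplex.doubleXIso₁ (ModuleCat.ofHom d) rel10 (by omega)).hom]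
      simp only [Preadditive.comp_sub, Preadditive.sub_comp, Category.assoc, Iso.inv_hom_id_assoc,
        Iso.inv_hom_id, Category.comp_id]
      rw [← ModuleCat.ofHom_comp, ← ModuleCat.ofHom_comp, ← hY]
      rfl
  exact ⟨(Homotopy.equivSubZero.symm ((Homotopy.ofEq key).trans (Homotopy.nullHomotopy' _))).symm⟩

theorem nonempty_iso (a : X →ₗ[B] X') (b : Y →ₗ[B] Y') (a' : X' →ₗ[B] X) (b' : Y' →ₗ[B] Y)
    (h : b ∘ₗ d = d' ∘ₗ a) (h' : b' ∘ₗ d' = d ∘ₗ a') (s : Y →ₗ[B] X) (s' : Y' →ₗ[B] X')
    (hX : LinearMap.id - a' ∘ₗ a = s ∘ₗ d) (hY : LinearMap.id - b' ∘ₗ b = d ∘ₗ s)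
    (hX' : LinearMap.id - a ∘ₗ a' = s' ∘ₗ d') (hY' : LinearMap.id - b ∘ₗ b' = d' ∘ₗ s') :
    Nonempty (DRing.toD (dbl d) ≅ DRing.toD (dbl d')) := by
  obtain ⟨H⟩ := nonempty_homotopy d d' a b a' b' h h' s hX hY
  obtain ⟨H'⟩ := nonempty_homotopy d' d a' b' a b h' h s' hX' hY'
  let e : HomotopyEquiv (dbl d) (dbl d') := ⟨dblMap d d' a b h, dblMap d' d a' b' h', H, H'⟩
  haveI : QuasiIso (dblMap d d' a b h) := e.quasiIso_hom
  exact ⟨asIso (DerivedCategory.Q.map (dblMap d d' a b h))⟩

end

variable {R B : Type u} [CommRing R] [CommRing B] [Algebra R B]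

theorem isPerfect_of_isLCI (h : LCI.IsLCI R B) : DRing.IsPerfect B (LCI.NL R B) := by
  obtain ⟨hft, d, π, hπ, hk⟩ := h
  haveI := projective_gens π hπ hk
  let G := gens π hπ
  let G₀ := Generators.self R B
  let f := (Generators.defaultHom G G₀).toExtensionHom
  let g := (Generators.defaultHom G₀ G).toExtensionHom
  obtain ⟨e⟩ := nonempty_iso G.toExtension.cotangentComplex G₀.toExtension.cotangentComplex
    (Extension.Cotangent.map f) (Extension.CotangentSpace.map f)
    (Extension.Cotangent.map g) (Extension.CotangentSpace.map g)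
    (Extension.CotangentSpace.map_comp_cotangentComplex f) (Extension.CotangentSpace.map_comp_cotangentComplex g)
    ((Extension.Hom.id _).sub (g.comp f)) ((Extension.Hom.id _).sub (f.comp g))
    (by rw [← Extension.Cotangent.map_sub_map, Extension.Cotangent.map_id, Extension.Cotangent.map_comp]; rfl)
    (by
      have h1 := Extension.CotangentSpace.map_sub_map (Extension.Hom.id G.toExtension) (g.comp f)
      rw [Extension.CotangentSpace.map_id, Extension.CotangentSpace.map_comp] at h1
      exact h1)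
    (by rw [← Extension.Cotangent.map_sub_map, Extension.Cotangent.map_id, Extension.Cotangent.map_comp]; rfl)
    (by
      have h1 := Extension.CotangentSpace.map_sub_map (Extension.Hom.id G₀.toExtension) (f.comp g)
      rw [Extension.CotangentSpace.map_id, Extension.CotangentSpace.map_comp] at h1
      exact h1)
  haveI : Module.Free B G.toExtension.CotangentSpace := Module.Free.of_basis G.cotangentSpaceBasis
  haveI : Module.Finite B G.toExtension.CotangentSpace := Module.Finite.of_basis G.cotangentSpaceBasis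
  have hker : (gens π hπ).toExtension.ker = RingHom.ker π := by
    ext a
    show algebraMap (gens π hπ).toExtension.Ring B a = 0 ↔ π a = 0
    rw [algebraMap_gens π hπ a]
  haveI : Module.Finite B G.toExtension.Cotangent :=
    Extension.Cotangent.finite (by rw [hker]; exact Groth.L07.KoszulIdeal.fg_of_isKoszulRegularIdeal hk)
  refine ⟨dbl G.toExtension.cotangentComplex, -1, 0,
    fun i hi => HomologicalComplex.isZero_double_X _ _ i (by omega) (by omega), fun i => ?_, ⟨e⟩⟩
  rcases eq_or_ne i 0 with rfl | h0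
  · let E := (HomologicalComplex.doubleXIso₁ (ModuleCat.ofHom G.toExtension.cotangentComplex)
      rel10 (by omega)).toLinearEquiv
    exact ⟨Module.Finite.equiv E.symm, Module.Projective.of_equiv E.symm⟩
  · rcases eq_or_ne i (-1) with rfl | h1
    · let E := (HomologicalComplex.doubleXIso₀ (ModuleCat.ofHom G.toExtension.cotangentComplex)
        rel10).toLinearEquiv
      exact ⟨Module.Finite.equiv E.symm, Module.Projective.of_equiv E.symm⟩
    · haveI := ModuleCat.subsingleton_of_isZero
        (HomologicalComplex.isZero_double_X (ModuleCat.ofHom G.toExtension.cotangentComplex) rel10 i h1 h0)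
      exact ⟨inferInstance, inferInstance⟩

end Groth.L14.NLAmp
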